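import Cfsg.Agent.H714.K4.Defs
import Cfsg.Agent.OddHalf.Known
import Cfsg.Agent.H485.TypList
import Cfsg.Agent.H612.BNAut

/-!
# TEAM K4 (S4947, S4547): assembly of the rows (helper775)

* `Rows P` : the property `P` for the families of simple groups (models and groups in `Type`), one field per family;
* `Rows.known` : then `P` holds for every known finite simple nonabelian group in `Type`;
* `exists_type` : every finite simple group has a copy in `Type`;
* `rowA_known` : the instance `P = RowA` of `H714.K4`, all universes.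
-/

set_option autoImplicit false
set_option linter.unusedSectionVars false

namespace Cfsg.Agent.H775.K4.Known

open Cfsg Subgroup Cfsg.Agent.H714.K4 Cfsg.Agent.Characters.Core Cfsg.Agent.Omega.ML.Ex.Typ

universe u v

/-- The rows, one field per family (`q` odd: `psl2`, `psl3`, `psu3`, `rgd`, `ree`; `q` even: `even`). -/
structure Rows (P : ∀ (S : Type) [Group S], Prop) : Prop where
  congr : ∀ (S T : Type) [Group S] [Finite S] [Group T], S ≃* T → P S → P T
  alt : ∀ n : ℕ, 5 ≤ n → P (alternatingGroup (Fin n))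
  psl2 : ∀ (F : Type) [Field F] [Fintype F], (2 : F) ≠ 0 → 4 ≤ Fintype.card F →
    P (Matrix.ProjectiveSpecialLinearGroup (Fin 2) F)
  psl3 : ∀ (F : Type) [Field F] [Fintype F], (2 : F) ≠ 0 → P (Matrix.ProjectiveSpecialLinearGroup (Fin 3) F)
  psu3 : ∀ (F : Type) [Field F] [Fintype F] (q : ℕ), Fintype.card F = q ^ 2 → (2 : F) ≠ 0 → P (PSU 3 F q)
  ree : ∀ (S : Type) [Group S] [Finite S] [IsSimpleGroup S], Lie.IsoRee S → P S
  rgd : ∀ (S : Type) [Group S] [Finite S] [IsSimpleGroup S] (p : ℕ), p.Prime → p ≠ 2 → ∀ (l : ℕ)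
    (M : CoxeterMatrix (Fin l)), HasRGDT p M S → 4 ∣ Nat.card M.Group → P S
  even : ∀ (S : Type) [Group S] [Finite S] [IsSimpleGroup S], IsLieTypeChar 2 S → P S
  tits : ∀ (S : Type) [Group S] [Finite S] [IsSimpleGroup S], Lie.IsoTits S → P S
  m11 : ∀ (S : Type) [Group S] [Finite S] [IsSimpleGroup S], Spor.IsoM11 S → P S
  m12 : ∀ (S : Type) [Group S] [Finite S] [IsSimpleGroup S], Spor.IsoM12 S → P S
  m22 : ∀ (S : Type) [Group S] [Finite S] [IsSimpleGroup S], Spor.IsoM22 S → P S
  m23 : ∀ (S : Type) [Group S] [Finite S] [IsSimpleGroup S], Spor.IsoM23 S → P S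
  m24 : ∀ (S : Type) [Group S] [Finite S] [IsSimpleGroup S], Spor.IsoM24 S → P S
  j1 : ∀ (S : Type) [Group S] [Finite S] [IsSimpleGroup S], Spor.IsoJ1 S → P S
  j2 : ∀ (S : Type) [Group S] [Finite S] [IsSimpleGroup S], Spor.IsoJ2 S → P S
  j3 : ∀ (S : Type) [Group S] [Finite S] [IsSimpleGroup S], Spor.IsoJ3 S → P S
  j4 : ∀ (S : Type) [Group S] [Finite S] [IsSimpleGroup S], Spor.IsoJ4 S → P S
  co1 : ∀ (S : Type) [Group S] [Finite S] [IsSimpleGroup S], Spor.IsoCo1 S → P S
  co2 : ∀ (S : Type) [Group S] [Finite S] [IsSimpleGroup S], Spor.IsoCo2 S → P S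
  co3 : ∀ (S : Type) [Group S] [Finite S] [IsSimpleGroup S], Spor.IsoCo3 S → P S
  mcl : ∀ (S : Type) [Group S] [Finite S] [IsSimpleGroup S], Spor.IsoMcL S → P S
  hs : ∀ (S : Type) [Group S] [Finite S] [IsSimpleGroup S], Spor.IsoHS S → P S
  suz : ∀ (S : Type) [Group S] [Finite S] [IsSimpleGroup S], Spor.IsoSuz S → P S
  he : ∀ (S : Type) [Group S] [Finite S] [IsSimpleGroup S], Spor.IsoHe S → P S
  ru : ∀ (S : Type) [Group S] [Finite S] [IsSimpleGroup S], Spor.IsoRu S → P S
  on : ∀ (S : Type) [Group S] [Finite S] [IsSimpleGroup S], Spor.IsoON S → P S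
  ly : ∀ (S : Type) [Group S] [Finite S] [IsSimpleGroup S], Spor.IsoLy S → P S
  fi22 : ∀ (S : Type) [Group S] [Finite S] [IsSimpleGroup S], Spor.IsoFi22 S → P S
  fi23 : ∀ (S : Type) [Group S] [Finite S] [IsSimpleGroup S], Spor.IsoFi23 S → P S
  fi24 : ∀ (S : Type) [Group S] [Finite S] [IsSimpleGroup S], Spor.IsoFi24' S → P S
  hn : ∀ (S : Type) [Group S] [Finite S] [IsSimpleGroup S], Spor.IsoHN S → P S
  th : ∀ (S : Type) [Group S] [Finite S] [IsSimpleGroup S], Spor.IsoTh S → P S
  b : ∀ (S : Type) [Group S] [Finite S] [IsSimpleGroup S], Spor.IsoB S → P S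
  m : ∀ (S : Type) [Group S] [Finite S] [IsSimpleGroup S], Spor.IsoM S → P S

/-! ### odd characteristic -/

/-- `4` divides the order of the Weyl group -/
theorem four_dvd {l : ℕ} (M : CoxeterMatrix (Fin l)) [Finite M.Group] {j k : Fin l} (hjk : j ≠ k) (h : 2 ∣ M j k) :
    4 ∣ Nat.card M.Group := by
  have h2 := (Cfsg.Agent.Tits.Core.WJ M.toCoxeterSystem {j, k}).card_subgroup_dvd_card
  rw [Cfsg.Agent.H612.BNAut.card_WJ_pair M.toCoxeterSystem hjk] at h2
  exact (Nat.mul_dvd_mul_left 2 h).trans h2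

theorem finite_of_hasRGDT {p l : ℕ} {M : CoxeterMatrix (Fin l)} {S : Type*} [Group S] (hR : HasRGDT p M S) :
    Finite M.Group := by
  obtain ⟨A, h, T, n, X, hW, -, -⟩ := hR
  exact hW

theorem Rows.odd {P : ∀ (S : Type) [Group S], Prop} (R : Rows P) {S : Type} [Group S] [Finite S] [IsSimpleGroup S]
    {p : ℕ} (hp : p.Prime) (hp2 : p ≠ 2) (h : IsLieTypeChar p S) : P S := by
  have two : ∀ (F : Type) [Field F] [CharP F p], (2 : F) ≠ 0 := by
    intro F _ _ h2
    have h3 : CharP F 2 := CharTwo.of_one_ne_zero_of_two_eq_zero one_ne_zero h2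
    exact hp2 (CharP.eq F ‹CharP F p› h3)
  have tr : ∀ {T : Type} [Group T], S ≃* T → P T → P S := by
    intro T _ e hT
    have : Finite T := Finite.of_equiv S e.toEquiv
    exact R.congr T S e.symm hT
  rcases H485.TypList.list_of_lie h with h | h | h | h | h | h | ⟨h, -⟩ | ⟨h, -⟩ | ⟨-, h⟩
  · obtain ⟨l, M, -, hB, hR⟩ := h
    have hfin : Finite M.Group := finite_of_hasRGDT hR
    refine R.rgd S p hp hp2 l M hR ?_
    rcases hB with ⟨i, j, hij⟩ | ⟨i, j, k, -, -, hik⟩
    · refine four_dvd M (j := i) (k := j) ?_ (by rw [hij]; norm_num)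
      rintro rfl
      rw [M.diagonal] at hij
      omega
    · refine four_dvd M (j := i) (k := k) ?_ (by rw [hik])
      rintro rfl
      rw [M.diagonal] at hik
      omega
  · obtain ⟨F, _, _, _, h4, ⟨e⟩⟩ := h
    exact tr e (R.psl2 F (two F) h4)
  · obtain ⟨F, _, _, _, ⟨e⟩⟩ := h
    exact tr e (R.psl3 F (two F))
  · obtain ⟨F, _, _, _, q, hF, -, ⟨e⟩⟩ := h
    exact tr e (R.psu3 F q hF (two F))
  · obtain ⟨F, _, _, _, ⟨e⟩⟩ := h
    have hR : HasRGDT p CoxeterMatrix.G₂ S :=
      (typ_group (by simp [Nodes.RGDChev.IsType, Nodes.RGDChev.typeList]) F p).of_equiv e.symm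
    have hfin : Finite (CoxeterMatrix.G₂).Group := finite_of_hasRGDT hR
    exact R.rgd S p hp hp2 _ _ hR (four_dvd _ (j := 0) (k := 1) (by decide) (by decide))
  · obtain ⟨K, _, _, _, q, hq, hK, ⟨e⟩⟩ := h
    have hR : HasRGDT p CoxeterMatrix.G₂ S := (typ_twD4 hq hK p).of_equiv e.symm
    have hfin : Finite (CoxeterMatrix.G₂).Group := finite_of_hasRGDT hR
    exact R.rgd S p hp hp2 _ _ hR (four_dvd _ (j := 0) (k := 1) (by decide) (by decide))
  · exact absurd h hp2
  · exact absurd h hp2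
  · exact R.ree S h

/-- **The assembly of the rows.** -/
theorem Rows.known {P : ∀ (S : Type) [Group S], Prop} (R : Rows P) {S : Type} [Group S] [Finite S] [IsSimpleGroup S]
    (hna : ¬ IsMulCommutative S) (h : IsKnownSimple' S) : P S := by
  rcases OddHalf.Known.classify hna h with ⟨n, hn, ⟨e⟩⟩ | ⟨p, hp, hp2, h⟩ | (h | h) | h
  · exact R.congr _ _ e.symm (R.alt n hn)
  · exact R.odd hp hp2 h
  · exact R.even S h
  · exact R.tits S h
  · rcases h with h | h | h | h | h | h | h | h | h | h | h | h | h | h | h | h | h | h |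
      h | h | h | h | h | h | h | h
    · exact R.m11 S h
    · exact R.m12 S h
    · exact R.m22 S h
    · exact R.m23 S h
    · exact R.m24 S h
    · exact R.j1 S h
    · exact R.j2 S h
    · exact R.j3 S h
    · exact R.j4 S h
    · exact R.co1 S h
    · exact R.co2 S h
    · exact R.co3 S h
    · exact R.mcl S h
    · exact R.hs S h
    · exact R.suz S h
    · exact R.he S h
    · exact R.ru S h
    · exact R.on S h
    · exact R.ly S h
    · exact R.fi22 S h
    · exact R.fi23 S h
    · exact R.fi24 S h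
    · exact R.hn S h
    · exact R.th S h
    · exact R.b S h
    · exact R.m S h

/-! ### transfer to all universes -/

/-- a finite group in any universe -/
theorem exists_model (G : Type u) [Group G] [Finite G] : ∃ (G' : Type v) (_ : Group G'), Nonempty (G' ≃* G) := by
  obtain ⟨n, ⟨f⟩⟩ := Finite.exists_equiv_fin G
  let f' : ULift.{v} (Fin n) ≃ G := Equiv.ulift.trans f.symm
  exact ⟨ULift.{v} (Fin n), f'.group, ⟨@Equiv.mulEquiv _ _ f' _⟩⟩

/-- A finite simple group has a copy in `Type`. -/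
theorem exists_type (S : Type u) [Group S] [Finite S] [IsSimpleGroup S] (hna : ¬ IsMulCommutative S) :
    ∃ (S' : Type) (_ : Group S') (_ : Finite S') (_ : IsSimpleGroup S'), ¬ IsMulCommutative S' ∧ Nonempty (S' ≃* S) := by
  obtain ⟨S', _, ⟨e⟩⟩ := exists_model.{u, 0} S
  have h1 : Finite S' := Finite.of_equiv S e.symm.toEquiv
  have h2 : IsSimpleGroup S' := OddHalf.Known.isSimple_congr e.symm inferInstance
  refine ⟨S', _, h1, h2, fun h => hna ⟨⟨fun a b => ?_⟩⟩, ⟨e⟩⟩
  apply e.symm.injective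
  rw [map_mul, map_mul]
  exact h.is_comm.comm _ _

/-- irreducible characters and isomorphisms -/
def irrE {S : Type u} {T : Type v} [Group S] [Group T] (e : S ≃* T) : IrrCharacter T ≃ IrrCharacter S where
  toFun χ := ⟨fun x => (χ : T → ℂ) (e x), isIrr_comp e.toMonoidHom e.surjective χ.2⟩
  invFun χ := ⟨fun x => (χ : S → ℂ) (e.symm x), isIrr_comp e.symm.toMonoidHom e.symm.surjective χ.2⟩
  left_inv χ := by apply Subtype.ext; funext x; simp
  right_inv χ := by apply Subtype.ext; funext x; simp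

theorem irrE_apply {S : Type u} {T : Type v} [Group S] [Group T] (e : S ≃* T) (χ : IrrCharacter T) (x : S) :
    (irrE e χ : S → ℂ) x = (χ : T → ℂ) (e x) := rfl

theorem k0_congr' {S : Type u} {T : Type v} [Group S] [Group T] (e : S ≃* T) : k0 S = k0 T := by
  refine (Nat.card_congr ((irrE e).subtypeEquiv fun χ => ?_)).symm
  have : charDegree (irrE e χ : S → ℂ) = charDegree (χ : T → ℂ) := by
    unfold charDegree
    rw [irrE_apply, map_one]
  rw [this]

/-- `RowA` in all universes -/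
theorem rowA_congr' {S : Type u} {T : Type v} [Group S] [Group T] (e : S ≃* T) (h : RowA S) : RowA T := by
  rcases h with h | h
  · exact Or.inl (syl_congr e h)
  · exact Or.inr (by rwa [← k0_congr' e])

/-- **Row A for the known simple groups.** -/
theorem rowA_known (R : Rows (fun S _ => RowA S))
    (hK : ∀ (S : Type) [Group S] [Finite S] [IsSimpleGroup S], IsKnownSimple' S)
    {S : Type u} [Group S] [Finite S] [IsSimpleGroup S] (hna : ¬ IsMulCommutative S) : RowA S := by
  obtain ⟨S', _, _, _, hna', ⟨e⟩⟩ := exists_type S hna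
  exact rowA_congr' e (R.known hna' (hK S'))

end Cfsg.Agent.H775.K4.Known
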